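import Cfsg.Agent.H704.DS.Rel

/-!
# S4906: kernel checks, HN (helper704, generated)
-/

set_option autoImplicit false
set_option linter.unusedSectionVars false
set_option maxRecDepth 100000

universe u

namespace Cfsg.Agent.H704.DS.K.HN

open Cfsg Cfsg.Agent.H704 Cfsg.Agent.H704.DS

variable {K : Type u} [Group K] [Finite K] {n : ℕ}

theorem seg0 : ([.two 23 29 17 23, .two 29 31 23 29, .two 31 36 29 31, .lev 36 37 9, .two 37 39 31 37, .lev 39 41 8, .two 41 43 37 41, .two 43 46 41 43, .lev 46 47 7, .two 47 49 43 47, .lev 49 53 7, .two 53 54 47 53, .lev 54 57 7] : List Seg).all (fun s => segChk true 273030912000000 [2, 3, 5, 7, 11, 19] [(19, 9)] 33047295 s) = true := by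
  decide +kernel

theorem seg1 : ([.lev 58 59 6, .two 59 60 53 59, .lev 60 61 6, .two 61 64 59 61, .lev 64 67 6, .two 67 68 61 67, .lev 68 71 6, .two 71 73 67 71, .two 73 76 71 73, .lev 76 79 6, .two 79 80 73 79, .lev 80 83 6, .two 83 85 79 83, .lev 85 88 6, .lev 88 101 5, .two 101 102 97 101, .lev 102 103 5, .two 103 105 101 103, .lev 105 107 5, .two 107 108 103 107, .lev 108 109 5, .two 109 111 107 109, .lev 111 113 5, .two 113 114 109 113, .lev 114 131 5, .two 131 132 127 131, .lev 132 139 5, .two 139 141 137 139, .lev 141 173 5, .lev 173 596 4, .fast 596 8132] : List Seg).all (fun s => segChk true 273030912000000 [2, 3, 5, 7, 11, 19] [(19, 9)] 33047295 s) = true := by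
  decide +kernel

theorem bad19 : TE (2 * 19 + 1 - 13 - 17) 19 (leaf true fun e => base 273030912000000 [(19, 9)] e || ([9, 18, 76, 152, 399, 798, 5985, 24624, 49248, 87780, 175560, 210672, 421344] : List ℕ).contains e) = true := by
  decide +kernel

theorem rel19 : relChk (19, 9) [9, 18, 76, 152, 399, 798, 5985, 24624, 49248, 87780, 175560, 210672, 421344] = true := by decide +kernel

theorem bad20 : TE (2 * 20 + 1 - 13 - 17) 20 (leaf true fun e => base 273030912000000 [(19, 9)] e || ([19, 171, 475, 950, 960, 1920, 3800, 7600, 21888, 43776, 125400, 204288, 250800, 408576, 456000, 912000, 2006400, 2188800, 4012800, 4377600] : List ℕ).contains e) = true := by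
  decide +kernel

theorem rel20 : relChk (19, 9) [19, 171, 475, 950, 960, 1920, 3800, 7600, 21888, 43776, 125400, 204288, 250800, 408576, 456000, 912000, 2006400, 2188800, 4012800, 4377600] = true := by decide +kernel

theorem bad21 : TE (2 * 21 + 1 - 13 - 17) 21 (leaf true fun e => base 273030912000000 [(19, 9)] e || ([10, 20, 95, 189, 190, 560, 570, 1120, 1140, 7182, 14175, 14364, 37800, 75600, 87780, 161595, 175560, 323190, 513000, 1026000, 3160080, 6320160, 8778000, 11850300] : List ℕ).contains e) = true := by
  decide +kernel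

theorem rel21 : relChk (19, 9) [10, 20, 95, 189, 190, 560, 570, 1120, 1140, 7182, 14175, 14364, 37800, 75600, 87780, 161595, 175560, 323190, 513000, 1026000, 3160080, 6320160, 8778000, 11850300] = true := by decide +kernel

theorem bad22 : TE (2 * 22 + 1 - 13 - 17) 22 (leaf true fun e => base 273030912000000 [(19, 9)] e || ([105, 209, 210, 665, 1320, 1330, 2640, 5775, 5985, 8778, 17556, 40128, 80256, 118503, 237006, 300960, 474012, 601920, 1777545, 3555090, 5617920, 11235840] : List ℕ).contains e) = true := by
  decide +kernel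

theorem rel22 : relChk (19, 9) [105, 209, 210, 665, 1320, 1330, 2640, 5775, 5985, 8778, 17556, 40128, 80256, 118503, 237006, 300960, 474012, 601920, 1777545, 3555090, 5617920, 11235840] = true := by decide +kernel

theorem bad57 : LE 7 57 (leaf true fun e => base 273030912000000 [(19, 9)] e || ([28, 56, 770, 1539, 1540, 13860, 27720, 182875, 365750, 1896048, 3792096] : List ℕ).contains e) = true := by
  decide +kernel

theorem rel57 : relChk (19, 9) [28, 56, 770, 1539, 1540, 13860, 27720, 182875, 365750, 1896048, 3792096] = true := by decide +kernel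

/-- **no `n`** for a group with the facts of HN -/
theorem kill (F : Facts K 273030912000000 [2, 3, 5, 7, 11, 19] [(19, 9)]) (hd : DegM true n K) : False := by
  have h1 : 19 ≤ n := F.le_n hd (p := 19) (by decide)
  have h2 : n < 8132 := F.lt_of_bound hd (by omega) (by decide) (by norm_num)
  by_cases g19 : n = 19
  · subst g19
    exact F.kill_rel_T hd 13 17 (by decide +kernel) bad19 (q := (19, 9)) (by decide) rel19
  by_cases g20 : n = 20
  · subst g20
    exact F.kill_rel_T hd 13 17 (by decide +kernel) bad20 (q := (19, 9)) (by decide) rel20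
  by_cases g21 : n = 21
  · subst g21
    exact F.kill_rel_T hd 13 17 (by decide +kernel) bad21 (q := (19, 9)) (by decide) rel21
  by_cases g22 : n = 22
  · subst g22
    exact F.kill_rel_T hd 13 17 (by decide +kernel) bad22 (q := (19, 9)) (by decide) rel22
  by_cases g57 : n = 57
  · subst g57
    exact F.kill_rel_L hd 7 33047295 (by decide +kernel) bad57 (q := (19, 9)) (by decide) rel57
  by_cases k0 : 23 ≤ n ∧ n < 57
  · exact F.of_segs hd (by decide) 33047295 _ (lo := 23) (hi := 57) (by decide) seg0 k0.1 k0.2
  by_cases k1 : 58 ≤ n ∧ n < 8132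
  · exact F.of_segs hd (by decide) 33047295 _ (lo := 58) (hi := 8132) (by decide) seg1 k1.1 k1.2
  omega

end Cfsg.Agent.H704.DS.K.HN
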