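import Cfsg.Agent.H704.DS.Rel

/-!
# S4906: kernel checks, He (helper704, generated)
-/

set_option autoImplicit false
set_option linter.unusedSectionVars false
set_option maxRecDepth 100000

universe u

namespace Cfsg.Agent.H704.DS.K.He

open Cfsg Cfsg.Agent.H704 Cfsg.Agent.H704.DS

variable {K : Type u} [Group K] [Finite K] {n : ℕ}

theorem seg0 : ([.two 19 20 13 19] : List Seg).all (fun s => segChk true 4030387200 [2, 3, 5, 7, 17] [(17, 8)] 126971 s) = true := by
  decide +kernel

theorem seg1 : ([.two 21 23 13 19, .two 23 25 19 23, .lev 25 26 7, .lev 26 29 6, .two 29 30 23 29, .lev 30 31 6, .two 31 33 29 31, .lev 33 41 5, .two 41 42 37 41, .lev 42 43 5, .two 43 45 41 43, .lev 45 51 4] : List Seg).all (fun s => segChk true 4030387200 [2, 3, 5, 7, 17] [(17, 8)] 126971 s) = true := by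
  decide +kernel

theorem seg2 : ([.lev 52 61 4, .two 61 62 59 61, .lev 62 73 4, .two 73 74 71 73, .lev 74 95 4, .fast 95 506] : List Seg).all (fun s => segChk true 4030387200 [2, 3, 5, 7, 17] [(17, 8)] 126971 s) = true := by
  decide +kernel

theorem bad17 : TE (2 * 17 + 1 - 11 - 13) 17 (leaf true fun e => base 4030387200 [(17, 8)] e || ([8, 16, 60, 119, 120, 272, 280, 544, 560, 850, 1700, 1904, 3808, 5355, 10200, 16660, 17850, 20400, 33320, 35700] : List ℕ).contains e) = true := by
  decide +kernel

theorem rel17 : relChk (17, 8) [8, 16, 60, 119, 120, 272, 280, 544, 560, 850, 1700, 1904, 3808, 5355, 10200, 16660, 17850, 20400, 33320, 35700] = true := by decide +kernel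

theorem bad18 : TE (2 * 18 + 1 - 11 - 13) 18 (leaf true fun e => base 4030387200 [(17, 8)] e || ([17, 68, 135, 136, 340, 672, 680, 1190, 1344, 2380, 4998, 9996, 11424, 12096, 22848, 24192] : List ℕ).contains e) = true := by
  decide +kernel

theorem rel18 : relChk (17, 8) [17, 68, 135, 136, 340, 672, 680, 1190, 1344, 2380, 4998, 9996, 11424, 12096, 22848, 24192] = true := by decide +kernel

theorem bad20 : TE (2 * 20 + 1 - 13 - 19) 20 (leaf true fun e => base 4030387200 [(17, 8)] e || ([85, 170, 960, 1920, 11475, 22848, 45696] : List ℕ).contains e) = true := by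
  decide +kernel

theorem rel20 : relChk (17, 8) [85, 170, 960, 1920, 11475, 22848, 45696] = true := by decide +kernel

theorem bad51 : LE 4 51 (leaf true fun e => base 4030387200 [(17, 8)] e || ([25, 50, 612, 1224, 1225, 9800, 19600] : List ℕ).contains e) = true := by
  decide +kernel

theorem rel51 : relChk (17, 8) [25, 50, 612, 1224, 1225, 9800, 19600] = true := by decide +kernel

/-- **no `n`** for a group with the facts of He -/
theorem kill (F : Facts K 4030387200 [2, 3, 5, 7, 17] [(17, 8)]) (hd : DegM true n K) : False := by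
  have h1 : 17 ≤ n := F.le_n hd (p := 17) (by decide)
  have h2 : n < 506 := F.lt_of_bound hd (by omega) (by decide) (by norm_num)
  by_cases g17 : n = 17
  · subst g17
    exact F.kill_rel_T hd 11 13 (by decide +kernel) bad17 (q := (17, 8)) (by decide) rel17
  by_cases g18 : n = 18
  · subst g18
    exact F.kill_rel_T hd 11 13 (by decide +kernel) bad18 (q := (17, 8)) (by decide) rel18
  by_cases g20 : n = 20
  · subst g20
    exact F.kill_rel_T hd 13 19 (by decide +kernel) bad20 (q := (17, 8)) (by decide) rel20
  by_cases g51 : n = 51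
  · subst g51
    exact F.kill_rel_L hd 4 126971 (by decide +kernel) bad51 (q := (17, 8)) (by decide) rel51
  by_cases k0 : 19 ≤ n ∧ n < 20
  · exact F.of_segs hd (by decide) 126971 _ (lo := 19) (hi := 20) (by decide) seg0 k0.1 k0.2
  by_cases k1 : 21 ≤ n ∧ n < 51
  · exact F.of_segs hd (by decide) 126971 _ (lo := 21) (hi := 51) (by decide) seg1 k1.1 k1.2
  by_cases k2 : 52 ≤ n ∧ n < 506
  · exact F.of_segs hd (by decide) 126971 _ (lo := 52) (hi := 506) (by decide) seg2 k2.1 k2.2
  omega

end Cfsg.Agent.H704.DS.K.He
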