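import Cfsg.Agent.H704.DS.Rel

/-!
# S4906: kernel checks, Co2T (helper704, generated)
-/

set_option autoImplicit false
set_option linter.unusedSectionVars false
set_option maxRecDepth 100000

universe u

namespace Cfsg.Agent.H704.DS.K.Co2T

open Cfsg Cfsg.Agent.H704 Cfsg.Agent.H704.DS

variable {K : Type u} [Group K] [Finite K] {n : ℕ}

theorem seg0 : ([.two 26 29 17 19, .two 29 31 19 29, .two 31 35 29 31, .lev 35 37 8, .two 37 39 31 37, .lev 39 40 8, .lev 40 41 7, .two 41 43 37 41, .two 43 46 41 43] : List Seg).all (fun s => segChk true 42305421312000 [2, 3, 5, 7, 11, 23] [(23, 11)] 13008524 s) = true := by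
  decide +kernel

theorem seg1 : ([.two 47 49 43 47, .lev 49 50 7, .lev 50 53 6, .two 53 54 47 53, .lev 54 59 6, .two 59 60 53 59, .lev 60 61 6, .two 61 64 59 61, .lev 64 67 6, .two 67 68 61 67, .lev 68 71 6, .two 71 73 67 71, .two 73 75 71 73, .lev 75 83 5, .two 83 84 79 83, .lev 84 101 5, .two 101 102 97 101, .lev 102 103 5, .two 103 105 101 103, .lev 105 107 5, .two 107 108 103 107, .lev 108 109 5, .two 109 111 107 109, .lev 111 113 5, .two 113 114 109 113, .lev 114 131 5, .two 131 132 127 131, .lev 132 138 5, .lev 138 139 4, .two 139 140 137 139, .lev 140 253 4] : List Seg).all (fun s => segChk true 42305421312000 [2, 3, 5, 7, 11, 23] [(23, 11)] 13008524 s) = true := by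
  decide +kernel

theorem seg2 : ([.lev 254 437 4, .fast 437 5103] : List Seg).all (fun s => segChk true 42305421312000 [2, 3, 5, 7, 11, 23] [(23, 11)] 13008524 s) = true := by
  decide +kernel

theorem bad23 : TE (2 * 23 + 1 - 17 - 19) 23 (leaf true fun e => base 42305421312000 [(23, 11)] e || ([11, 22, 115, 230, 231, 759, 770, 1518, 1540, 3542, 7084, 21735, 63756, 127512, 177100, 354200] : List ℕ).contains e) = true := by
  decide +kernel

theorem rel23 : relChk (23, 11) [11, 22, 115, 230, 231, 759, 770, 1518, 1540, 3542, 7084, 21735, 63756, 127512, 177100, 354200] = true := by decide +kernel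

theorem bad24 : TE (2 * 24 + 1 - 17 - 19) 24 (leaf true fun e => base 42305421312000 [(23, 11)] e || ([23, 126, 252, 253, 1760, 1771, 3520, 8855, 13041, 15939, 26082, 31878, 64768, 66528, 129536, 133056, 430353, 655776, 777216, 860706, 1311552, 1554432] : List ℕ).contains e) = true := by
  decide +kernel

theorem rel24 : relChk (23, 11) [23, 126, 252, 253, 1760, 1771, 3520, 8855, 13041, 15939, 26082, 31878, 64768, 66528, 129536, 133056, 430353, 655776, 777216, 860706, 1311552, 1554432] = true := by decide +kernel

theorem bad25 : TE (2 * 25 + 1 - 17 - 19) 25 (leaf true fun e => base 42305421312000 [(23, 11)] e || ([12, 24, 138, 275, 276, 1000, 1012, 2000, 2024, 4025, 5175, 5313, 10350, 10500, 10626, 20240, 21000, 21252, 31625, 40480, 42504, 103500, 124740, 151800, 207000, 249480, 303600, 644000, 664125, 1288000, 5796000] : List ℕ).contains e) = true := by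
  decide +kernel

theorem rel25 : relChk (23, 11) [12, 24, 138, 275, 276, 1000, 1012, 2000, 2024, 4025, 5175, 5313, 10350, 10500, 10626, 20240, 21000, 21252, 31625, 40480, 42504, 103500, 124740, 151800, 207000, 249480, 303600, 644000, 664125, 1288000, 5796000] = true := by decide +kernel

theorem bad46 : LE 7 46 (leaf true fun e => base 42305421312000 [(23, 11)] e || ([45, 495, 990, 14168, 28336] : List ℕ).contains e) = true := by
  decide +kernel

theorem rel46 : relChk (23, 11) [45, 495, 990, 14168, 28336] = true := by decide +kernel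

theorem bad253 : LE 4 253 (leaf true fun e => base 42305421312000 [(23, 11)] e || ([126, 252, 31625] : List ℕ).contains e) = true := by
  decide +kernel

theorem rel253 : relChk (23, 11) [126, 252, 31625] = true := by decide +kernel

/-- **no `n`** for a group with the facts of Co2T -/
theorem kill (F : Facts K 42305421312000 [2, 3, 5, 7, 11, 23] [(23, 11)]) (hd : DegM true n K) : False := by
  have h1 : 23 ≤ n := F.le_n hd (p := 23) (by decide)
  have h2 : n < 5103 := F.lt_of_bound hd (by omega) (by decide) (by norm_num)
  by_cases g23 : n = 23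
  · subst g23
    exact F.kill_rel_T hd 17 19 (by decide +kernel) bad23 (q := (23, 11)) (by decide) rel23
  by_cases g24 : n = 24
  · subst g24
    exact F.kill_rel_T hd 17 19 (by decide +kernel) bad24 (q := (23, 11)) (by decide) rel24
  by_cases g25 : n = 25
  · subst g25
    exact F.kill_rel_T hd 17 19 (by decide +kernel) bad25 (q := (23, 11)) (by decide) rel25
  by_cases g46 : n = 46
  · subst g46
    exact F.kill_rel_L hd 7 13008524 (by decide +kernel) bad46 (q := (23, 11)) (by decide) rel46
  by_cases g253 : n = 253
  · subst g253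
    exact F.kill_rel hd (cover_L (K := 4) (B := 13008524) (by norm_num) (lb_high (K := 4) (m := 253) (by norm_num) (by norm_num) le_rfl (by decide +kernel))) (base2_L (by decide +kernel)) bad253 (q := (23, 11)) (by decide) rel253
  by_cases k0 : 26 ≤ n ∧ n < 46
  · exact F.of_segs hd (by decide) 13008524 _ (lo := 26) (hi := 46) (by decide) seg0 k0.1 k0.2
  by_cases k1 : 47 ≤ n ∧ n < 253
  · exact F.of_segs hd (by decide) 13008524 _ (lo := 47) (hi := 253) (by decide) seg1 k1.1 k1.2
  by_cases k2 : 254 ≤ n ∧ n < 5103
  · exact F.of_segs hd (by decide) 13008524 _ (lo := 254) (hi := 5103) (by decide) seg2 k2.1 k2.2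
  omega

end Cfsg.Agent.H704.DS.K.Co2T
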