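import Cfsg.Agent.H704.DS.Rel

/-!
# S4906: kernel checks, Co3T (helper704, generated)
-/

set_option autoImplicit false
set_option linter.unusedSectionVars false
set_option maxRecDepth 100000

universe u

namespace Cfsg.Agent.H704.DS.K.Co3T

open Cfsg Cfsg.Agent.H704 Cfsg.Agent.H704.DS

variable {K : Type u} [Group K] [Finite K] {n : ℕ}

theorem seg0 : ([.two 26 27 17 19, .lev 27 28 9, .lev 28 30 8, .lev 30 31 7, .two 31 34 29 31, .lev 34 36 7, .lev 36 37 6, .two 37 38 31 37, .lev 38 41 6, .two 41 43 37 41, .two 43 46 41 43] : List Seg).all (fun s => segChk true 495766656000 [2, 3, 5, 7, 11, 23] [(23, 11)] 1408214 s) = true := by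
  decide +kernel

theorem seg1 : ([.two 47 48 43 47, .lev 48 61 5, .two 61 63 59 61, .lev 63 71 5, .two 71 72 67 71, .lev 72 73 5, .two 73 75 71 73, .lev 75 80 5, .lev 80 103 4, .two 103 104 101 103, .lev 104 109 4, .two 109 110 107 109, .lev 110 139 4, .two 139 140 137 139, .lev 140 210 4, .fast 210 253] : List Seg).all (fun s => segChk true 495766656000 [2, 3, 5, 7, 11, 23] [(23, 11)] 1408214 s) = true := by
  decide +kernel

theorem seg2 : ([.fast 254 1680] : List Seg).all (fun s => segChk true 495766656000 [2, 3, 5, 7, 11, 23] [(23, 11)] 1408214 s) = true := by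
  decide +kernel

theorem bad23 : TE (2 * 23 + 1 - 17 - 19) 23 (leaf true fun e => base 495766656000 [(23, 11)] e || ([11, 22, 115, 230, 231, 759, 770, 1518, 1540, 3542, 7084, 21735, 63756, 127512, 177100, 354200] : List ℕ).contains e) = true := by
  decide +kernel

theorem rel23 : relChk (23, 11) [11, 22, 115, 230, 231, 759, 770, 1518, 1540, 3542, 7084, 21735, 63756, 127512, 177100, 354200] = true := by decide +kernel

theorem bad24 : TE (2 * 24 + 1 - 17 - 19) 24 (leaf true fun e => base 495766656000 [(23, 11)] e || ([23, 126, 252, 253, 1760, 1771, 3520, 8855, 13041, 15939, 26082, 31878, 64768, 66528, 129536, 133056, 430353, 655776] : List ℕ).contains e) = true := by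
  decide +kernel

theorem rel24 : relChk (23, 11) [23, 126, 252, 253, 1760, 1771, 3520, 8855, 13041, 15939, 26082, 31878, 64768, 66528, 129536, 133056, 430353, 655776] = true := by decide +kernel

theorem bad25 : TE (2 * 25 + 1 - 17 - 19) 25 (leaf true fun e => base 495766656000 [(23, 11)] e || ([12, 24, 138, 275, 276, 1000, 1012, 2000, 2024, 4025, 5175, 5313, 10350, 10500, 10626, 20240, 21000, 21252, 31625, 40480, 42504, 103500, 124740, 151800, 207000, 249480, 303600, 644000, 664125] : List ℕ).contains e) = true := by
  decide +kernel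

theorem rel25 : relChk (23, 11) [12, 24, 138, 275, 276, 1000, 1012, 2000, 2024, 4025, 5175, 5313, 10350, 10500, 10626, 20240, 21000, 21252, 31625, 40480, 42504, 103500, 124740, 151800, 207000, 249480, 303600, 644000, 664125] = true := by decide +kernel

theorem bad46 : LE 6 46 (leaf true fun e => base 495766656000 [(23, 11)] e || ([45, 495, 990, 14168, 28336] : List ℕ).contains e) = true := by
  decide +kernel

theorem rel46 : relChk (23, 11) [45, 495, 990, 14168, 28336] = true := by decide +kernel

theorem bad253 : LE 3 253 (leaf true fun e => base 495766656000 [(23, 11)] e || ([126, 252, 31625] : List ℕ).contains e) = true := by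
  decide +kernel

theorem rel253 : relChk (23, 11) [126, 252, 31625] = true := by decide +kernel

/-- **no `n`** for a group with the facts of Co3T -/
theorem kill (F : Facts K 495766656000 [2, 3, 5, 7, 11, 23] [(23, 11)]) (hd : DegM true n K) : False := by
  have h1 : 23 ≤ n := F.le_n hd (p := 23) (by decide)
  have h2 : n < 1680 := F.lt_of_bound hd (by omega) (by decide) (by norm_num)
  by_cases g23 : n = 23
  · subst g23
    exact F.kill_rel_T hd 17 19 (by decide +kernel) bad23 (q := (23, 11)) (by decide) rel23
  by_cases g24 : n = 24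
  · subst g24
    exact F.kill_rel_T hd 17 19 (by decide +kernel) bad24 (q := (23, 11)) (by decide) rel24
  by_cases g25 : n = 25
  · subst g25
    exact F.kill_rel_T hd 17 19 (by decide +kernel) bad25 (q := (23, 11)) (by decide) rel25
  by_cases g46 : n = 46
  · subst g46
    exact F.kill_rel_L hd 6 1408214 (by decide +kernel) bad46 (q := (23, 11)) (by decide) rel46
  by_cases g253 : n = 253
  · subst g253
    exact F.kill_rel hd (cover_L (K := 3) (B := 1408214) (by norm_num) (lb_high (K := 3) (m := 253) (by norm_num) (by norm_num) le_rfl (by decide +kernel))) (base2_L (by decide +kernel)) bad253 (q := (23, 11)) (by decide) rel253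
  by_cases k0 : 26 ≤ n ∧ n < 46
  · exact F.of_segs hd (by decide) 1408214 _ (lo := 26) (hi := 46) (by decide) seg0 k0.1 k0.2
  by_cases k1 : 47 ≤ n ∧ n < 253
  · exact F.of_segs hd (by decide) 1408214 _ (lo := 47) (hi := 253) (by decide) seg1 k1.1 k1.2
  by_cases k2 : 254 ≤ n ∧ n < 1680
  · exact F.of_segs hd (by decide) 1408214 _ (lo := 254) (hi := 1680) (by decide) seg2 k2.1 k2.2
  omega

end Cfsg.Agent.H704.DS.K.Co3T
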