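import Cfsg.Agent.H704.DS.Rel

/-!
# S4906: kernel checks, Tits (helper704, generated)
-/

set_option autoImplicit false
set_option linter.unusedSectionVars false
set_option maxRecDepth 100000

universe u

namespace Cfsg.Agent.H704.DS.K.Tits

open Cfsg Cfsg.Agent.H704 Cfsg.Agent.H704.DS

variable {K : Type u} [Group K] [Finite K] {n : ℕ}

theorem seg0 : ([.full 14 17, .two 17 19 11 17, .two 19 21 17 19, .lev 21 23 5, .two 23 24 19 23, .lev 24 31 4, .two 31 32 29 31, .lev 32 40 4, .lev 40 43 3, .two 43 44 41 43, .lev 44 61 3, .two 61 62 59 61, .fast 62 132] : List Seg).all (fun s => segChk true 17971200 [2, 3, 5, 13] [(13, 6)] 8479 s) = true := by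
  decide +kernel

theorem bad13 : TE (2 * 13 + 1 - 7 - 11) 13 (leaf true fun e => base 17971200 [(13, 6)] e || ([6, 12, 65, 104, 208, 468, 936, 3900] : List ℕ).contains e) = true := by
  decide +kernel

theorem rel13 : relChk (13, 6) [6, 12, 65, 104, 208, 468, 936, 3900] = true := by decide +kernel

/-- **no `n`** for a group with the facts of Tits -/
theorem kill (F : Facts K 17971200 [2, 3, 5, 13] [(13, 6)]) (hd : DegM true n K) : False := by
  have h1 : 13 ≤ n := F.le_n hd (p := 13) (by decide)
  have h2 : n < 132 := F.lt_of_bound hd (by omega) (by decide) (by norm_num)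
  by_cases g13 : n = 13
  · subst g13
    exact F.kill_rel_T hd 7 11 (by decide +kernel) bad13 (q := (13, 6)) (by decide) rel13
  by_cases k0 : 14 ≤ n ∧ n < 132
  · exact F.of_segs hd (by decide) 8479 _ (lo := 14) (hi := 132) (by decide) seg0 k0.1 k0.2
  omega

end Cfsg.Agent.H704.DS.K.Tits
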